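import Cfsg.Agent.BpSpor.MBigEleven
import Cfsg.Agent.H562.OreM.QVal

/-!
# `X(1) = X(2A)` modulo `2^12` in the Monster (helper741, [Q] of (M,23), S4929)

* `two_pow` : for every character `X` of the model `MG` and every `t` of class `2A` the value `X t` is an integer and
  `4096` divides `X 1 - X t`;
* `abce` : the values at `1`, `2A`, `2B` in terms of natural numbers.
-/

set_option autoImplicit false
set_option maxRecDepth 100000

namespace Cfsg.Agent.H741.M23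

open Cfsg Cfsg.Agent.MonsterX Cfsg.Agent.MonsterX.InstData Cfsg.Agent.MonsterX.MainPack Cfsg.Agent.MonsterU
open Cfsg.Agent.MonsterP Cfsg.Agent.MonsterN Cfsg.Agent.LThreeMB
open Cfsg.Agent.MonsterX.MainBasic Cfsg.Agent.MonsterX.MainSimple Cfsg.Agent.MonsterX.Model
open Cfsg.Agent.MonsterU.Lam2 Cfsg.Agent.MonsterU.TwoCls
open Cfsg.Agent.BpSpor.MBigModel
open Cfsg.Agent.LThreeB.Row (TA)
open Cfsg.Spor (Co1)
open Cfsg.Agent.Characters.Core

/-- a type 2 element of `Q` is of class `2A` -/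
theorem exists_two : ∃ y : MG, y ∈ KDone.K.ι.range ∧ IsType 2 (KChart.eta KDone.lft y) ∧ TA y := by
  obtain ⟨x, hx⟩ : {x : L2 | IsType 2 x}.Nonempty :=
    Set.nonempty_of_ncard_ne_zero (by have := Cfsg.Agent.ConwayFacts.NormL2.ncard_two; omega)
  obtain ⟨y, hy, rfl⟩ := chart.eta_surj x
  refine ⟨y, hy, hx, ?_⟩
  obtain ⟨p, rfl⟩ := hy
  have hx' : IsType 2 (KChart.eta KDone.lft (KDone.K.ι p)) := hx
  rw [KChart.eta_ι] at hx'
  exact ta_iota hx'

/-- **The values at `1`, `2A`, `2B`.** -/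
theorem abce {X : MG → ℂ} (hX : IsCharacter MG X) {t : MG} (ht : TA t) :
    ∃ a b c e : ℕ, X 1 = ((a + 196584 * b + 16775168 * c + 16582679 * e : ℕ) : ℂ) ∧
      X t = (((a : ℤ) + 4072 * b - 2048 * c - 2025 * e : ℤ) : ℂ) ∧
      X zz = (((a : ℤ) - 24 * b - 2048 * c + 2071 * e : ℤ) : ℂ) := by
  have hfin := finite
  have hs := simple
  obtain ⟨n, ρ, rfl⟩ := hX
  obtain ⟨y2, h2Q, h2, hTA⟩ := exists_two
  obtain ⟨g, hin, hne, hg4⟩ := Fused.exists_type_four chart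
  obtain ⟨a, b, c, e, h1, h3, h4⟩ := Cfsg.Agent.H562.OreM.QVal.values chart ρ hin hg4 ⟨g, rfl⟩ h2Q h2
  have hc : ρ.character t = ρ.character y2 := by
    have e1 : IsConj y2 t := (IsConj.symm (a := _) hTA).trans ht
    obtain ⟨k, hk⟩ := isConj_iff.1 e1
    rw [← hk]
    exact ρ.char_conj y2 k
  refine ⟨a, b, c, e, ?_, ?_, h4⟩
  · rw [← h1]
    exact ρ.char_one
  · rw [hc]
    exact h3

/-- **`2^12` divides `X(1) - X(2A)`.** -/
theorem two_pow {X : MG → ℂ} (hX : IsCharacter MG X) {t : MG} (ht : TA t) {d b : ℤ} (hd : X 1 = d) (hb : X t = b) :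
    (4096 : ℤ) ∣ d - b := by
  obtain ⟨p, q, r, s, h1, h2, -⟩ := abce hX ht
  rw [hd] at h1
  rw [hb] at h2
  have h1' : d = ((p + 196584 * q + 16775168 * r + 16582679 * s : ℕ) : ℤ) := by exact_mod_cast h1
  have h2' : b = (p : ℤ) + 4072 * q - 2048 * r - 2025 * s := by exact_mod_cast h2
  rw [h1', h2']
  refine ⟨47 * q + 4096 * r + 4049 * s, ?_⟩
  push_cast
  ring

end Cfsg.Agent.H741.M23
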