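import Cfsg.Agent.H715.Mon.Exact
import Cfsg.Agent.H58.Mon.FiveB
import Cfsg.Agent.H149.Sp.Quot
import Cfsg.Agent.BpSpor.MBigEleven
import Cfsg.Agent.S3331

/-!
# (M,23) of S4929, piece [E2-C]: centralizers of the elements of orders 3 and 5 commuting with an element of order 17 or 19
(helper741)

* `cent3_17` : `|C(x)| = 3 |Fi24'|`, `x` of order 3 commuting with an element of order 17;
* `cent3_19` : `|C(x)| = 3 |Th|`, `x` of order 3 commuting with an element of order 19;
* `cent5_19` : `|C(x)| = 5 |HN|`, `x` of order 5 commuting with an element of order 19.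
-/

set_option autoImplicit false
set_option maxRecDepth 100000

namespace Cfsg.Agent.H741.M23.Cent

open Cfsg Subgroup
open Cfsg.Agent.H241.Mon

universe u

section gen

variable {G : Type u} [Group G]

theorem cent_zp (x : G) : centralizer ((zpowers x : Subgroup G) : Set G) = centralizer ({x} : Set G) := by
  rw [zpowers_eq_closure, centralizer_closure]

theorem card_cent_conj (g x : G) : Nat.card (centralizer ({g * x * g⁻¹} : Set G)) = Nat.card (centralizer ({x} : Set G)) := by
  refine Nat.card_congr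
    { toFun := fun y => ⟨g⁻¹ * y * g, mem_centralizer_singleton_iff.2 ?_⟩
      invFun := fun y => ⟨g * y * g⁻¹, mem_centralizer_singleton_iff.2 ?_⟩
      left_inv := fun y => Subtype.ext (by show g * (g⁻¹ * (y : G) * g) * g⁻¹ = y; group)
      right_inv := fun y => Subtype.ext (by show g⁻¹ * (g * (y : G) * g⁻¹) * g = y; group) }
  · have h := mem_centralizer_singleton_iff.1 y.2
    calc g⁻¹ * (y : G) * g * x = g⁻¹ * ((y : G) * (g * x * g⁻¹)) * g := by group
      _ = g⁻¹ * ((g * x * g⁻¹) * (y : G)) * g := by rw [h]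
      _ = x * (g⁻¹ * (y : G) * g) := by group
  · have h := mem_centralizer_singleton_iff.1 y.2
    calc g * (y : G) * g⁻¹ * (g * x * g⁻¹) = g * ((y : G) * x) * g⁻¹ := by group
      _ = g * (x * (y : G)) * g⁻¹ := by rw [h]
      _ = g * x * g⁻¹ * (g * (y : G) * g⁻¹) := by group

theorem orderOf_cj (g x : G) : orderOf (g * x * g⁻¹) = orderOf x :=
  orderOf_injective (MulAut.conj g).toMonoidHom (MulAut.conj g).injective x

variable [Finite G]

theorem card_of_comm {p q : ℕ} (hp : p.Prime) (hq : q.Prime) (hqG : ¬ q ^ 2 ∣ Nat.card G) {x y v : G}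
    (hx : orderOf x = p) (hv : orderOf v = p) (hy : orderOf y = q) (hxy : Commute x y)
    (hC : ¬ p ^ 2 ∣ Nat.card (centralizer ({y} : Set G))) (hd : q ∣ Nat.card (centralizer ({v} : Set G))) :
    Nat.card (centralizer ({x} : Set G)) = Nat.card (centralizer ({v} : Set G)) := by
  have hqf : Fact q.Prime := ⟨hq⟩
  obtain ⟨y0, hy0⟩ := exists_prime_orderOf_dvd_card' (G := centralizer ({v} : Set G)) q hd
  have hy0' : orderOf (y0 : G) = q := by rw [Subgroup.orderOf_coe, hy0]
  obtain ⟨g, hg⟩ := H149.Sp.Eng.exists_conj hq hqG hy hy0'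
  have hc0 : Commute (y0 : G) v := mem_centralizer_singleton_iff.1 y0.2
  -- `w = g v g⁻¹` commutes with `y`
  have hc1 : Commute (g * (y0 : G) * g⁻¹) (g * v * g⁻¹) := by
    show g * (y0 : G) * g⁻¹ * (g * v * g⁻¹) = g * v * g⁻¹ * (g * (y0 : G) * g⁻¹)
    calc g * (y0 : G) * g⁻¹ * (g * v * g⁻¹) = g * ((y0 : G) * v) * g⁻¹ := by group
      _ = g * (v * (y0 : G)) * g⁻¹ := by rw [hc0.eq]
      _ = _ := by group
  obtain ⟨n, hn⟩ := mem_zpowers_iff.1 hg
  have hc2 : Commute (g * v * g⁻¹) y := by
    rw [← hn]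
    exact (hc1.zpow_left n).symm
  have hxC : x ∈ centralizer ({y} : Set G) := mem_centralizer_singleton_iff.2 hxy
  have hwC : g * v * g⁻¹ ∈ centralizer ({y} : Set G) := mem_centralizer_singleton_iff.2 hc2
  obtain ⟨k, hk⟩ := H149.Sp.Eng.exists_conj (G := centralizer ({y} : Set G)) hp hC (u := ⟨x, hxC⟩)
    (u' := ⟨g * v * g⁻¹, hwC⟩) (by rw [Subgroup.orderOf_mk, hx]) (by rw [Subgroup.orderOf_mk, orderOf_cj, hv])
  have hk1 : x ∈ zpowers ((k : G) * (g * v * g⁻¹) * (k : G)⁻¹) := by
    obtain ⟨m, hm⟩ := mem_zpowers_iff.1 hk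
    exact mem_zpowers_iff.2 ⟨m, by simpa using congrArg Subtype.val hm⟩
  have hz : zpowers x = zpowers ((k : G) * (g * v * g⁻¹) * (k : G)⁻¹) := by
    refine Subgroup.eq_of_le_of_card_ge ((zpowers_le).2 hk1) ?_
    rw [Nat.card_zpowers, Nat.card_zpowers, orderOf_cj, orderOf_cj, hx, hv]
  rw [← cent_zp x, hz, cent_zp, card_cent_conj, card_cent_conj]

end gen

theorem sThree : H715.Mon.Grp.SThree.{0} := fun _ _ _ X hX hC => S3331.result X hX hC

theorem sq17 : ¬ 17 ^ 2 ∣ Nat.card Gam := by rw [card_G]; norm_num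

theorem sq19 : ¬ 19 ^ 2 ∣ Nat.card Gam := by rw [card_G]; norm_num

/-- **order 3, commuting with an element of order 17** -/
theorem cent3_17 {x y : Gam} (hx : orderOf x = 3) (hy : orderOf y = 17) (h : Commute x y) :
    Nat.card (centralizer ({x} : Set Gam)) = 3 * 1255205709190661721292800 := by
  obtain ⟨v, hv, -, hi⟩ := exists_fi
  have hv' : orderOf (v : Gam) = 3 := by rw [Subgroup.orderOf_coe, hv]
  have hc : Nat.card (centralizer ({(v : Gam)} : Set Gam)) = 3 * 1255205709190661721292800 := by
    rw [card_XX hv', card_fi hi, Nat.mul_comm]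
  rw [← hc]
  refine card_of_comm Nat.prime_three (by norm_num) sq17 hx hv' hy h ?_ ?_
  · rw [H715.Mon.Exact.card17 sThree hy]; norm_num
  · rw [hc]; norm_num

/-- **order 3, commuting with an element of order 19** -/
theorem cent3_19 {x y : Gam} (hx : orderOf x = 3) (hy : orderOf y = 19) (h : Commute x y) :
    Nat.card (centralizer ({x} : Set Gam)) = 272237831663616000 := by
  obtain ⟨v, hv, -, hi⟩ := exists_th
  have hv' : orderOf (v : Gam) = 3 := by rw [Subgroup.orderOf_coe, hv]
  have hc : Nat.card (centralizer ({(v : Gam)} : Set Gam)) = 272237831663616000 := by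
    rw [card_XX hv', card_th hi]
  rw [← hc]
  refine card_of_comm Nat.prime_three (by norm_num) sq19 hx hv' hy h ?_ ?_
  · rw [H715.Mon.Exact.card19' sThree hy]; norm_num
  · rw [hc]; norm_num

/-- **order 5, commuting with an element of order 19** -/
theorem cent5_19 {x y : Gam} (hx : orderOf x = 5) (hy : orderOf y = 19) (h : Commute x y) :
    Nat.card (centralizer ({x} : Set Gam)) = 5 * 273030912000000 := by
  obtain ⟨v, hv, -, hi⟩ := exists_hn
  have hv' : orderOf (v : Gam) = 5 := by rw [Subgroup.orderOf_coe, hv]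
  have hc : Nat.card (centralizer ({(v : Gam)} : Set Gam)) = 5 * 273030912000000 := by
    rw [card_XX hv', card_hn hi, Nat.mul_comm]
  rw [← hc]
  refine card_of_comm (by norm_num) (by norm_num) sq19 hx hv' hy h ?_ ?_
  · rw [H715.Mon.Exact.card19' sThree hy]; norm_num
  · rw [hc]; norm_num

/-- the order of the centralizer of the element `z` of class 2B -/
theorem card_z : Nat.card (centralizer ({MonsterX.KDone.K.z} : Set Gam)) = 139511839126336328171520000 := by
  rw [card_cz]; norm_num

open BpSpor.MBigModel in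
/-- the same for `zz` -/
theorem card_zz : Nat.card (centralizer ({zz} : Set MG)) = 139511839126336328171520000 := by
  rw [card_cent_z]; norm_num

open BpSpor.MBigModel in
/-- the order of the centralizer of an element of class 2A -/
theorem card_t {t : MG} (ht : LThreeB.Row.TA t) :
    Nat.card (centralizer ({t} : Set MG)) = 8309562962452852382355161088000000 := by
  rw [card_cent_t ht]

end Cfsg.Agent.H741.M23.Cent
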